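import Groth.Agent.ConormalH1.Seq
import Groth.Agent.KoszulLib.SchImm
import Groth.Agent.KoszulLib.Basic

/-!
# Koszul regularity of the second immersion when the conormal sequence splits
-/

set_option autoImplicit false
set_option linter.style.haveILetI false
set_option linter.unusedSectionVars false
set_option backward.isDefEq.respectTransparency false
set_option backward.isDefEq.respectTransparency.types false

universe u

open CategoryTheory CategoryTheory.Limits AlgebraicGeometry TopologicalSpace Opposite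

noncomputable section

namespace Groth.Agent.ConormalH1

open Groth.Agent.QC Groth.Agent.ModDesc Groth.Agent.Conormal Wiebe

variable {Z Y X : Scheme.{u}}

/-- The classes of a quasi-regular generating sequence form a frame. -/
theorem exists_frame {j : Z ⟶ Y} [QuasiCompact j] {U : Y.Opens} (hch : IsChart j U) {n : ℕ} {g : Fin n → Γ(Y, U)}
    (hq : CAlgX.IsQuasiRegular g) (hker : RingHom.ker (j.app U).hom = Ideal.span (Set.range g)) :
    ∃ s : Fin n → Γ(ClSub.idealMod j.ker, U), (∀ k, OmegaSh.idealSect j.ker U (s k) = g k) ∧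
      TMul.IsFrame fun k => OmegaSh.conormalSect j U (s k) := by
  have hz : ∀ k, j.app U (g k) = 0 := fun k =>
    RingHom.mem_ker.1 (hker.symm ▸ Ideal.subset_span (Set.mem_range_self k))
  choose s hs using fun k => Conormal.exists_idealSect j U (g k) (hz k)
  refine ⟨s, hs, ?_⟩
  let b : Fin n → Γ(Omega.conormal j, j ⁻¹ᵁ U) := fun k => OmegaSh.conormalSect j U (s k)
  have key : ∀ a : Fin n → Γ(Y, U), ∑ k, (j.app U).hom (a k) • b k =
      OmegaSh.conormalSect j U (∑ k, a k • s k) := fun a => by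
    rw [map_sum]
    exact Finset.sum_congr rfl fun k _ => (Conormal.conormalSect_smul j U (a k) (s k)).symm
  have key2 : ∀ a : Fin n → Γ(Y, U), OmegaSh.idealSect j.ker U (∑ k, a k • s k) = ∑ k, a k * g k := fun a => by
    rw [map_sum]
    exact Finset.sum_congr rfl fun k _ => by rw [Conormal.idealSect_smul, hs]
  refine PBundle.isFrame_of_bijective (Conormal.isQCoh_conormal j) hch.preimage ⟨fun r r' h => ?_, fun m => ?_⟩
  · choose a ha using fun k => hch.surjective (r k - r' k)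
    have h0 : ∑ k, (r k - r' k) • b k = 0 := by
      simp only [sub_smul, Finset.sum_sub_distrib]
      exact sub_eq_zero.2 h
    simp only [← ha] at h0
    rw [key, Conormal.conormalSect_eq_zero_iff j hch, key2] at h0
    funext k
    refine sub_eq_zero.1 ?_
    rw [← ha k]
    refine RingHom.mem_ker.1 ?_
    rw [hker]
    exact SectRank.indep_of_quasi g hq a (by rwa [hker] at h0) k
  · obtain ⟨t, rfl⟩ := Conormal.conormalSect_surjective j hch m
    have hmem : OmegaSh.idealSect j.ker U t ∈ Ideal.span (Set.range g) :=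
      hker ▸ RingHom.mem_ker.2 (Conormal.app_idealSect j U t)
    obtain ⟨a, ha⟩ := Ideal.mem_span_range_iff_exists_fun.1 hmem
    refine ⟨fun k => (j.app U).hom (a k), ?_⟩
    change ∑ k, _ • b k = _
    rw [key]
    congr 1
    exact Conormal.idealSect_injective j.ker U ((key2 a).trans ha)

/-- A retraction on an open gives linear retractions on the sections over smaller opens. -/
theorem exists_retraction {M N : Z.Modules} (φ : M ⟶ N) {O : Z.Opens}
    (ρ : (Scheme.Modules.restrictFunctor O.ι).obj N ⟶ (Scheme.Modules.restrictFunctor O.ι).obj M)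
    (hρ : (Scheme.Modules.restrictFunctor O.ι).map φ ≫ ρ = 𝟙 _) {W : Z.Opens} (hW : W ≤ O) :
    ∃ r : Γ(N, W) →ₗ[Γ(Z, W)] Γ(M, W), ∀ x, r (φ.app W x) = x := by
  have e : O.ι ''ᵁ (O.ι ⁻¹ᵁ W) = W := by
    rw [Scheme.Hom.image_preimage_eq_opensRange_inf, Scheme.Opens.opensRange_ι, inf_eq_right.mpr hW]
  rw [← e]
  refine ⟨{ toFun := fun y => ρ.app (O.ι ⁻¹ᵁ W) y
            map_add' := fun a b => map_add _ _ _
            map_smul' := fun c a => ?_ }, fun x => ?_⟩
  · let c0 : Γ((O : Scheme.{u}), O.ι ⁻¹ᵁ W) := c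
    have e1 : ∀ (P : Z.Modules) (m : Γ(P, O.ι ''ᵁ (O.ι ⁻¹ᵁ W))),
        c0 • (show Γ((Scheme.Modules.restrictFunctor O.ι).obj P, O.ι ⁻¹ᵁ W) from m) =
          (show Γ((Scheme.Modules.restrictFunctor O.ι).obj P, O.ι ⁻¹ᵁ W) from c • m) := fun P m => by
      refine (congr(($(Scheme.Modules.smul_restrictAppIso_hom O.ι P (O.ι ⁻¹ᵁ W) c0)) m) :).trans ?_
      simp only [Scheme.Opens.ι_appIso]
      rfl
    have h := Scheme.Modules.Hom.app_smul ρ (U := O.ι ⁻¹ᵁ W) c0 a
    exact ((congrArg _ (e1 N a)).symm.trans h).trans (e1 _ _)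
  · exact congrArg (fun ψ : (Scheme.Modules.restrictFunctor O.ι).obj M ⟶ (Scheme.Modules.restrictFunctor O.ι).obj M =>
      ψ.app (O.ι ⁻¹ᵁ W) x) hρ

variable {f : Y ⟶ X} {j : Z ⟶ Y}
  {φ₁ : (Scheme.Modules.pullback j).obj (Omega.conormal f) ⟶ Omega.conormal (j ≫ f)}

set_option maxHeartbeats 1000000 in
/-- If the first map of the conormal sequence is locally split injective, the second immersion is
Koszul-regular. -/
theorem koszul_of_split [IsImmersion f] [QuasiCompact f] [IsImmersion j] [QuasiCompact j]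
    (hf : RegImm.IsRegularImmersion .koszul f) (hjf : RegImm.IsRegularImmersion .koszul (j ≫ f))
    (hφ₁ : OmegaSh.IsConormalMap (j ≫ f) f (𝟙 X) j φ₁)
    (hsplit : ∀ z : Z, ∃ (O : Z.Opens) (ρ : (Scheme.Modules.restrictFunctor O.ι).obj (Omega.conormal (j ≫ f)) ⟶
        (Scheme.Modules.restrictFunctor O.ι).obj ((Scheme.Modules.pullback j).obj (Omega.conormal f))),
        z ∈ O ∧ (Scheme.Modules.restrictFunctor O.ι).map φ₁ ≫ ρ = 𝟙 _) :
    RegImm.IsRegularImmersion .koszul j := by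
  refine ⟨inferInstance, fun z => ?_⟩
  obtain ⟨O, ρ, hzO, hρ⟩ := hsplit z
  obtain ⟨U₀, hzU₀, hc₀, rs, hrs, hker₀⟩ := hf.2 (j z)
  obtain ⟨U, hUc, hzU, hle, hUO⟩ := exists_chart_le (j ≫ f) z O hzO U₀.1 hzU₀
  have hUf : IsChart f U := IsChart.of_le ⟨U₀.2, hc₀⟩ hUc.affine hle
  have hjc : IsChart j (f ⁻¹ᵁ U) := by
    refine ⟨hUf.preimage, ?_⟩
    haveI := hUf.closed
    have h := hUc.closed
    rw [morphismRestrict_comp] at h
    haveI := h
    exact IsClosedImmersion.of_comp (j ∣_ f ⁻¹ᵁ U) (f ∣_ U)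
  letI : Algebra Γ(X, U₀.1) Γ(X, U) := ((𝟙 X : X ⟶ X).appLE U₀.1 U hle).hom.toAlgebra
  haveI : Module.Flat Γ(X, U₀.1) Γ(X, U) := (𝟙 X : X ⟶ X).flat_appLE U₀.2 hUc.affine hle
  let F : Fin rs.length → Γ(X, U) := algebraMap Γ(X, U₀.1) Γ(X, U) ∘ rs.get
  have hFa : Acyclic F := KoszulLib.acyclic_baseChange Γ(X, U) (KoszulLib.koszul_seq_iff.1 hrs)
  have hF : RingHom.ker (f.app U).hom = Ideal.span (Set.range F) := by
    rw [IsChart.ker_eq_map (i := f) ⟨U₀.2, hc₀⟩ hUc.affine hle, hker₀, Ideal.ofList]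
    rw [Ideal.map_span]
    refine congrArg Ideal.span ?_
    ext a
    simp [F, RingHom.algebraMap_toAlgebra, Scheme.Hom.appLE, List.mem_iff_get]
  obtain ⟨s, hs, hsf⟩ := exists_frame hUf (KoszulLib.isQuasiRegular_of_h1 (KoszulLib.isH1Regular_of_acyclic hFa)) hF
  have he := TMul.IsFrame.pullback j hsf
  obtain ⟨r, hr⟩ := exists_retraction φ₁ ρ hρ hUO
  let P := (hUc.affine.primeIdealOf ⟨(j ≫ f) z, hzU⟩).asIdeal
  let J := RingHom.ker ((j ≫ f).app U).hom
  have hJP : J ≤ P := KoszulLib.ker_le_primeIdealOf (j ≫ f) ⟨U, hUc.affine⟩ hUc.closed z hzU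
  have hfJ : RingHom.ker (f.app U).hom ≤ J := fun a ha => by
    rw [RingHom.mem_ker, Scheme.Hom.comp_app]
    show j.app _ (f.app U a) = 0
    rw [RingHom.mem_ker.1 ha, map_zero]
  have hKJ : KoszulLib.KAt J P :=
    (KoszulLib.isRegularImmersionAt_iff (j ≫ f) ⟨U, hUc.affine⟩ hUc.closed z hzU).1 (hjf.2 z)
  have hg1 : (1 : Γ(X, U)) ∉ P := fun h =>
    (hUc.affine.primeIdealOf ⟨(j ≫ f) z, hzU⟩).isPrime.ne_top ((Ideal.eq_top_iff_one _).2 h)
  haveI : IsLocalization.Away (1 : Γ(X, U)) Γ(X, U) :=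
    IsLocalization.away_of_isUnit_of_bijective _ isUnit_one Function.bijective_id
  have hgen : KoszulLib.KGen (RingHom.ker (f.app U).hom) 1 F :=
    KoszulLib.KGen.of Γ(X, U) (fun k => hF.symm ▸ Ideal.subset_span ⟨k, rfl⟩)
      (by rw [Algebra.algebraMap_self, Ideal.map_id, hF]; rfl) hFa
  have hind : ∀ b : Fin rs.length → Γ(X, U), ∑ k, b k * F k ∈ P * J → ∀ k, b k ∈ P := by
    intro b hb
    let Q := P.map ((j ≫ f).app U).hom
    let x : Γ((Scheme.Modules.pullback j).obj (Omega.conormal f), (j ≫ f) ⁻¹ᵁ U) :=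
      ∑ k, ((j ≫ f).app U).hom (b k) • show Γ((Scheme.Modules.pullback j).obj (Omega.conormal f), (j ≫ f) ⁻¹ᵁ U) from
      OmegaSh.pullSect j (Omega.conormal f) (f ⁻¹ᵁ U) (OmegaSh.conormalSect f U (s k))
    obtain ⟨t, ht, htQ⟩ : ∃ t : Γ(ClSub.idealMod (j ≫ f).ker, U),
        OmegaSh.idealSect (j ≫ f).ker U t = ∑ k, b k * F k ∧
        OmegaSh.conormalSect (j ≫ f) U t ∈
          Q • (⊤ : Submodule Γ(Z, (j ≫ f) ⁻¹ᵁ U) Γ(Omega.conormal (j ≫ f), (j ≫ f) ⁻¹ᵁ U)) := by
      refine Submodule.mul_induction_on hb (fun p hp a ha => ?_) (fun a c ha hc => ?_)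
      · obtain ⟨t, ht⟩ := exists_idealSect (j ≫ f) U a (RingHom.mem_ker.1 ha)
        refine ⟨p • t, by rw [idealSect_smul, ht], ?_⟩
        rw [conormalSect_smul]
        exact Submodule.smul_mem_smul (Ideal.mem_map_of_mem _ hp) trivial
      · obtain ⟨t₁, h1, h1'⟩ := ha
        obtain ⟨t₂, h2, h2'⟩ := hc
        exact ⟨t₁ + t₂, by rw [map_add, h1, h2], by rw [map_add]; exact add_mem h1' h2'⟩
    have hx : φ₁.app ((j ≫ f) ⁻¹ᵁ U) x = OmegaSh.conormalSect (j ≫ f) U t := by
      choose s' hs' using fun k => exists_idealSect (j ≫ f) U (F k)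
        (RingHom.mem_ker.1 (hfJ (hF.symm ▸ Ideal.subset_span ⟨k, rfl⟩)))
      have e1 : ∀ k, φ₁.app ((j ≫ f) ⁻¹ᵁ U)
          (OmegaSh.pullSect j (Omega.conormal f) (f ⁻¹ᵁ U) (OmegaSh.conormalSect f U (s k))) =
            OmegaSh.conormalSect (j ≫ f) U (s' k) := fun k =>
        (congrArg _ (QC.res_self _ le_rfl _).symm).trans
          (IsConormalMap.app_class (j ≫ f) f (𝟙 X) j hφ₁ U U le_rfl le_rfl (s k) (s' k) (by
            rw [hs', hs, Scheme.Hom.appLE, Scheme.Hom.id_app]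
            exact (resO_self le_rfl _).symm))
      rw [show t = ∑ k, b k • s' k from Conormal.idealSect_injective _ U (by
        rw [ht, map_sum]
        exact Finset.sum_congr rfl fun k _ => by rw [idealSect_smul, hs'])]
      rw [map_sum, map_sum]
      exact Finset.sum_congr rfl fun k _ => by
        rw [Scheme.Modules.Hom.app_smul, e1, conormalSect_smul]
    have hxQ : x ∈ Q • (⊤ : Submodule Γ(Z, (j ≫ f) ⁻¹ᵁ U)
        Γ((Scheme.Modules.pullback j).obj (Omega.conormal f), (j ≫ f) ⁻¹ᵁ U)) := by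
      rw [← hr x, hx]
      have := Submodule.mem_map_of_mem (f := r) htQ
      rw [Submodule.map_smul''] at this
      exact Submodule.smul_mono le_rfl le_top this
    obtain ⟨c, hc, hcx⟩ : ∃ c : Fin rs.length → Γ(Z, (j ≫ f) ⁻¹ᵁ U), (∀ k, c k ∈ Q) ∧ ∑ k, c k •
        (show Γ((Scheme.Modules.pullback j).obj (Omega.conormal f), (j ≫ f) ⁻¹ᵁ U) from
          OmegaSh.pullSect j (Omega.conormal f) (f ⁻¹ᵁ U) (OmegaSh.conormalSect f U (s k))) = x := by
      refine Submodule.smul_induction_on hxQ (fun q hq y _ => ?_) (fun a c ha hc => ?_)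
      · obtain ⟨d, hd⟩ := (he.equiv le_rfl).surjective y
        refine ⟨fun k => q * (show Γ(Z, (j ≫ f) ⁻¹ᵁ U) from d k), fun k => Q.mul_mem_right _ hq, ?_⟩
        rw [← hd]
        show _ = q • ∑ k, (show Γ(Z, (j ≫ f) ⁻¹ᵁ U) from d k) •
          (show Γ((Scheme.Modules.pullback j).obj (Omega.conormal f), (j ≫ f) ⁻¹ᵁ U) from QC.res _ le_rfl _)
        rw [Finset.smul_sum]
        exact Finset.sum_congr rfl fun k _ => by rw [QC.res_self, mul_smul]; rfl
      · obtain ⟨a', ha, rfl⟩ := ha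
        obtain ⟨c', hc, rfl⟩ := hc
        exact ⟨a' + c', fun k => add_mem (ha k) (hc k), by simp [add_smul, Finset.sum_add_distrib]⟩
    have hcb : c = fun k => ((j ≫ f).app U).hom (b k) := he.comb_injective (V := (j ≫ f) ⁻¹ᵁ U) le_rfl (by
      show ∑ k, c k • QC.res _ _ _ = ∑ k, _ • QC.res _ _ _
      simp only [QC.res_self]
      exact hcx)
    intro k
    have h1 : b k ∈ Q.comap ((j ≫ f).app U).hom := by
      rw [Ideal.mem_comap]
      exact (congrFun hcb k) ▸ hc k
    rw [Ideal.comap_map_of_surjective _ hUc.surjective, ← RingHom.ker_eq_comap_bot] at h1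
    exact sup_le le_rfl hJP h1
  have h := KoszulLib.KAt.quotient (f.app U).hom hUf.surjective hKJ hJP hg1 hgen hfJ hind
  refine (KoszulLib.isRegularImmersionAt_iff j ⟨f ⁻¹ᵁ U, hUf.preimage⟩ hjc.closed z hzU).2 ?_
  show KoszulLib.KAt (RingHom.ker (j.app (f ⁻¹ᵁ U)).hom) (hUf.preimage.primeIdealOf ⟨j z, hzU⟩).asIdeal
  have hK : J.map (f.app U).hom = RingHom.ker (j.app (f ⁻¹ᵁ U)).hom := by
    have : J = (RingHom.ker (j.app (f ⁻¹ᵁ U)).hom).comap (f.app U).hom := by
      ext a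
      rw [Ideal.mem_comap, RingHom.mem_ker, RingHom.mem_ker, Scheme.Hom.comp_app]
      rfl
    rw [this, Ideal.map_comap_of_surjective _ hUf.surjective]
  have hP : P.map (f.app U).hom = (hUf.preimage.primeIdealOf ⟨j z, hzU⟩).asIdeal := by
    have h1 := KoszulLib.comap_primeIdealOf f ⟨U, hUc.affine⟩ ⟨f ⁻¹ᵁ U, hUf.preimage⟩ le_rfl (j z) hzU
    rw [← Scheme.Hom.app_eq_appLE] at h1
    show Ideal.map (f.app U).hom (hUc.affine.primeIdealOf ⟨f (j z), hzU⟩).asIdeal = _
    rw [← h1, Ideal.map_comap_of_surjective _ hUf.surjective]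
  rwa [hK, hP] at h

end Groth.Agent.ConormalH1
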