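import Groth.Agent.Conormal.Seq
import Groth.Agent.KoszulLib.FlatKinds
import Groth.Agent.KoszulLib.Kinds
import Groth.Agent.ExtFund.CanonIndep
import Groth.Agent.LocFree.Props

/-!
# The conormal sequence of an `H_1`-regular immersion
-/

set_option autoImplicit false
set_option linter.style.haveILetI false
set_option linter.unusedSectionVars false
set_option backward.isDefEq.respectTransparency false
set_option backward.isDefEq.respectTransparency.types false

universe u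

open CategoryTheory CategoryTheory.Limits AlgebraicGeometry TopologicalSpace Opposite

noncomputable section

namespace Groth.Agent.ConormalH1

open Groth.Agent.QC Groth.Agent.ModDesc Groth.Agent.Conormal Wiebe
open Groth.Agent.KoszulLib (trivRel)

section Algebra

variable {A B : Type u} [CommRing A] [CommRing B] (π : A →+* B)

theorem sum_mul_eq_zero {n : ℕ} (g : Fin n → A) {t : Fin n → A} (ht : t ∈ trivRel g) : ∑ i, t i * g i = 0 := by
  induction ht using Submodule.span_induction with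
  | mem v hv =>
    obtain ⟨i, j, rfl⟩ := hv
    simp only [Pi.sub_apply, sub_mul, Finset.sum_sub_distrib]
    rw [Finset.sum_eq_single i, Finset.sum_eq_single j, Pi.single_eq_same, Pi.single_eq_same, mul_comm, sub_self]
    all_goals simp +contextual [Pi.single_apply]
  | zero => simp
  | add x y _ _ hx hy => simp [add_mul, Finset.sum_add_distrib, hx, hy]
  | smul c x _ hx => simp [mul_assoc, ← Finset.mul_sum, hx]

theorem exists_trivRel_lift (hπ : Function.Surjective π) {n : ℕ} (g : Fin n → A) {y : Fin n → B}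
    (hy : y ∈ trivRel (π ∘ g)) : ∃ t ∈ trivRel g, π ∘ t = y := by
  induction hy using Submodule.span_induction with
  | mem v hv =>
    obtain ⟨i, j, rfl⟩ := hv
    refine ⟨_, KoszulLib.trivRel_gen g i j, funext fun k => ?_⟩
    simp only [Function.comp_apply, Pi.sub_apply, map_sub, Pi.single_apply]
    split_ifs <;> simp
  | zero => exact ⟨0, zero_mem _, funext fun k => by simp⟩
  | add x y _ _ hx hy =>
    obtain ⟨s, hs, rfl⟩ := hx
    obtain ⟨t, ht, rfl⟩ := hy
    exact ⟨s + t, add_mem hs ht, funext fun k => by simp⟩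
  | smul c x _ hx =>
    obtain ⟨s, hs, rfl⟩ := hx
    obtain ⟨a, rfl⟩ := hπ c
    exact ⟨a • s, Submodule.smul_mem _ a hs, funext fun k => by simp⟩

/-- For an `H_1`-regular sequence in a quotient, `J ∩ K² = J K`. -/
theorem mem_mul_of_mem_sq (hπ : Function.Surjective π) {n : ℕ} (g : Fin n → A)
    (hg : CAlgX.IsH1Regular (π ∘ g)) {K : Ideal A} (hK : K = (Ideal.span (Set.range (π ∘ g))).comap π)
    {a : A} (haJ : a ∈ RingHom.ker π) (haK : a ∈ K ^ 2) : a ∈ RingHom.ker π * K := by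
  let G := Ideal.span (Set.range g)
  have hJK : RingHom.ker π ≤ K := fun x hx => by rw [hK, Ideal.mem_comap, RingHom.mem_ker.1 hx]; exact zero_mem _
  have hGK : G ≤ K := Ideal.span_le.2 (Set.range_subset_iff.2 fun i => by
    rw [hK]; exact Ideal.subset_span ⟨i, rfl⟩)
  have hK' : K = RingHom.ker π ⊔ G := by
    refine le_antisymm ?_ (sup_le hJK hGK)
    rw [hK, show Set.range (π ∘ g) = π '' Set.range g from Set.range_comp _ _, ← Ideal.map_span,
      Ideal.comap_map_of_surjective π hπ, RingHom.ker_eq_comap_bot]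
    exact sup_comm _ _ |>.le
  have h2 : K ^ 2 ≤ RingHom.ker π * K ⊔ G * G := by
    rw [pow_two]
    nth_rw 1 [hK']
    rw [Ideal.sup_mul]
    refine sup_le le_sup_left ?_
    rw [hK', Ideal.mul_sup, mul_comm G]
    exact sup_le (le_sup_of_le_left (Ideal.mul_mono_right le_sup_right)) le_sup_right
  obtain ⟨b, hb, q, hq, rfl⟩ := Submodule.mem_sup.1 (h2 haK)
  obtain ⟨c, hc, hcq⟩ : ∃ c : Fin n → A, (∀ i, c i ∈ G) ∧ ∑ i, c i * g i = q := by
    refine Submodule.mul_induction_on hq (fun x hx y hy => ?_) (fun x y hx hy => ?_)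
    · obtain ⟨d, hd⟩ := Ideal.mem_span_range_iff_exists_fun.1 hy
      exact ⟨fun i => x * d i, fun i => G.mul_mem_right _ hx, by rw [← hd, Finset.mul_sum]; simp [mul_assoc]⟩
    · obtain ⟨c, hc, rfl⟩ := hx
      obtain ⟨d, hd, rfl⟩ := hy
      exact ⟨c + d, fun i => add_mem (hc i) (hd i), by simp [add_mul, Finset.sum_add_distrib]⟩
  have hbJ : b ∈ RingHom.ker π := Ideal.mul_le_left (I := RingHom.ker π) (J := K) hb |> fun h => h
  have hrel : ∑ i, (π ∘ c) i * (π ∘ g) i = 0 := by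
    have h0 : π q = 0 := by
      have := RingHom.mem_ker.1 haJ
      rwa [map_add, RingHom.mem_ker.1 hbJ, zero_add] at this
    rw [← h0, ← hcq, map_sum]
    simp
  obtain ⟨t, ht, htc⟩ := exists_trivRel_lift π hπ g (KoszulLib.h1_iff.1 hg _ hrel)
  refine add_mem hb ?_
  have : q = ∑ i, (c i - t i) * g i := by
    simp [sub_mul, Finset.sum_sub_distrib, hcq, sum_mul_eq_zero g ht]
  rw [this]
  refine Ideal.sum_mem _ fun i _ => Ideal.mul_mem_mul ?_ (hGK (Ideal.subset_span ⟨i, rfl⟩))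
  rw [RingHom.mem_ker, map_sub, sub_eq_zero]
  exact (congrFun htc i).symm

end Algebra

variable {Z Y X : Scheme.{u}}

/-- The sections of a pulled back quasi-coherent module over a chart. -/
theorem pullSect_chart {j : Z ⟶ Y} {M : Y.Modules} (hM : Coh.IsQCoh M) {V : Y.Opens} (h : IsChart j V) :
    Function.Surjective (OmegaSh.pullSect j M V) ∧
    ∀ m, OmegaSh.pullSect j M V m = 0 ↔
      m ∈ RingHom.ker (j.app V).hom • (⊤ : Submodule Γ(Y, V) Γ(M, V)) := by
  haveI : Coh.IsQCoh M := hM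
  letI : Algebra Γ(Y, V) Γ(Z, j ⁻¹ᵁ V) := (j.appLE V (j ⁻¹ᵁ V) le_rfl).hom.toAlgebra
  obtain ⟨Φ, hΦ⟩ := exists_bijective_liftBaseChange j M h.affine h.preimage le_rfl
  have hcl : ∀ s, Φ (1 ⊗ₜ s) = OmegaSh.pullSect j M V s := fun s => by
    rw [hΦ, pullSectLE_apply, res_self]
  have halg : algebraMap Γ(Y, V) Γ(Z, j ⁻¹ᵁ V) = (j.app V).hom := by
    rw [RingHom.algebraMap_toAlgebra, Scheme.Hom.app_eq_appLE]
  have hsurj : Function.Surjective (algebraMap Γ(Y, V) Γ(Z, j ⁻¹ᵁ V)) := by rw [halg]; exact h.surjective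
  constructor
  · intro c
    obtain ⟨x, rfl⟩ := Φ.surjective c
    induction x with
    | zero => exact ⟨0, by simp⟩
    | add a b ha hb =>
      obtain ⟨sa, hsa⟩ := ha
      obtain ⟨sb, hsb⟩ := hb
      exact ⟨sa + sb, by rw [map_add, map_add, hsa, hsb]⟩
    | tmul r s =>
      obtain ⟨a, rfl⟩ := hsurj r
      refine ⟨a • s, ?_⟩
      rw [← hcl, TensorProduct.tmul_smul, TensorProduct.smul_tmul', Algebra.smul_def, mul_one]
  · intro s
    rw [← hcl]
    refine Iff.trans (map_eq_zero_iff Φ Φ.injective) ?_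
    let J := RingHom.ker (algebraMap Γ(Y, V) Γ(Z, j ⁻¹ᵁ V))
    let e : (Γ(Y, V) ⧸ J) ≃ₐ[Γ(Y, V)] Γ(Z, j ⁻¹ᵁ V) :=
      Ideal.quotientKerAlgEquivOfSurjective (f := Algebra.ofId Γ(Y, V) Γ(Z, j ⁻¹ᵁ V)) hsurj
    let E := (TensorProduct.congr e.toLinearEquiv (LinearEquiv.refl Γ(Y, V) Γ(M, V))).symm ≪≫ₗ
      TensorProduct.quotTensorEquivQuotSMul Γ(M, V) J
    have hE : E (1 ⊗ₜ s) = Submodule.Quotient.mk s := by
      simp only [E, LinearEquiv.trans_apply, TensorProduct.congr_symm_tmul]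
      rw [show e.toLinearEquiv.symm 1 = Ideal.Quotient.mk J 1 from (map_one e.symm)]
      simp [TensorProduct.quotTensorEquivQuotSMul_mk_tmul]
    rw [← EmbeddingLike.map_eq_zero_iff (f := E), hE, Submodule.Quotient.mk_eq_zero]
    simp only [J, halg]

/-- `V` is a chart for `j` on which the kernel is generated by an `H_1`-regular sequence. -/
def IsH1Chart (j : Z ⟶ Y) (V : Y.Opens) : Prop :=
  IsChart j V ∧ ∃ (n : ℕ) (g : Fin n → Γ(Y, V)), CAlgX.IsH1Regular g ∧
    RingHom.ker (j.app V).hom = Ideal.span (Set.range g)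

theorem IsH1Chart.of_le {j : Z ⟶ Y} {V W : Y.Opens} (hV : IsH1Chart j V) (hW : IsAffineOpen W) (e : W ≤ V) :
    IsH1Chart j W := by
  obtain ⟨hc, n, g, hg, hker⟩ := hV
  letI : Algebra Γ(Y, V) Γ(Y, W) := ((𝟙 Y : Y ⟶ Y).appLE V W e).hom.toAlgebra
  haveI : Module.Flat Γ(Y, V) Γ(Y, W) := (𝟙 Y : Y ⟶ Y).flat_appLE hc.affine hW e
  refine ⟨hc.of_le hW e, n, algebraMap Γ(Y, V) Γ(Y, W) ∘ g, KoszulLib.h1_flat hg, ?_⟩
  rw [hc.ker_eq_map hW e, hker, Ideal.map_span, ← Set.range_comp]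
  congr 2

theorem exists_h1Chart {j : Z ⟶ Y} (hj : RegImm.IsRegularImmersion RegImm.Kind.h1 j) (z : Z) :
    ∃ V, j z ∈ V ∧ IsH1Chart j V := by
  obtain ⟨U, hz, hc, rs, hrs, hker⟩ := hj.2 z
  exact ⟨U.1, hz, ⟨U.2, hc⟩, rs.length, rs.get, hrs, by rw [hker, Set.range_list_get]⟩

/-- The conormal sheaf of an `H_1`-regular immersion is finite locally free. -/
theorem isFinLocFree_conormal (j : Z ⟶ Y) [QuasiCompact j] (hj : RegImm.IsRegularImmersion RegImm.Kind.h1 j) :
    FlatMod.IsFinLocFree (Omega.conormal j) := fun x => by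
  obtain ⟨U, hxU, hch, n, g, hg, hker⟩ := exists_h1Chart hj x
  have hq : CAlgX.IsQuasiRegular g := KoszulLib.isQuasiRegular_of_h1 hg
  have hz : ∀ k, j.app U (g k) = 0 := fun k =>
    RingHom.mem_ker.1 (hker.symm ▸ Ideal.subset_span (Set.mem_range_self k))
  choose s hs using fun k => Conormal.exists_idealSect j U (g k) (hz k)
  let b : Fin n → Γ(Omega.conormal j, j ⁻¹ᵁ U) := fun k => OmegaSh.conormalSect j U (s k)
  have key : ∀ a : Fin n → Γ(Y, U), ∑ k, (j.app U).hom (a k) • b k =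
      OmegaSh.conormalSect j U (∑ k, a k • s k) := fun a => by
    rw [map_sum]
    exact Finset.sum_congr rfl fun k _ => (Conormal.conormalSect_smul j U (a k) (s k)).symm
  have key2 : ∀ a : Fin n → Γ(Y, U), OmegaSh.idealSect j.ker U (∑ k, a k • s k) = ∑ k, a k * g k := fun a => by
    rw [map_sum]
    exact Finset.sum_congr rfl fun k _ => by rw [Conormal.idealSect_smul, hs]
  have hb : TMul.IsFrame b := PBundle.isFrame_of_bijective (Conormal.isQCoh_conormal j) hch.preimage (by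
    refine ⟨fun r r' h => ?_, fun m => ?_⟩
    · choose a ha using fun k => hch.surjective (r k - r' k)
      have h0 : ∑ k, (r k - r' k) • b k = 0 := by
        simp only [sub_smul, Finset.sum_sub_distrib]
        exact sub_eq_zero.2 h
      simp only [← ha] at h0
      rw [key, Conormal.conormalSect_eq_zero_iff j hch, key2] at h0
      funext k
      refine sub_eq_zero.1 ?_
      rw [← ha k]
      refine RingHom.mem_ker.1 ?_
      rw [hker]
      exact SectRank.indep_of_quasi g hq a (by rwa [hker] at h0) k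
    · obtain ⟨t, rfl⟩ := Conormal.conormalSect_surjective j hch m
      have hmem : OmegaSh.idealSect j.ker U t ∈ Ideal.span (Set.range g) :=
        hker ▸ RingHom.mem_ker.2 (Conormal.app_idealSect j U t)
      obtain ⟨a, ha⟩ := Ideal.mem_span_range_iff_exists_fun.1 hmem
      refine ⟨fun k => (j.app U).hom (a k), ?_⟩
      change ∑ k, _ • b k = _
      rw [key]
      congr 1
      exact Conormal.idealSect_injective j.ker U ((key2 a).trans ha))
  obtain ⟨e⟩ := ExtFund.nonempty_iso_free ((j ⁻¹ᵁ U).ι_preimage_self) (hb.pullback (j ⁻¹ᵁ U).ι)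
  exact ⟨j ⁻¹ᵁ U, n, hxU, ⟨(Scheme.Modules.restrictFunctorIsoPullback (j ⁻¹ᵁ U).ι).app _ ≪≫ e⟩⟩

variable {f : Y ⟶ X} {j : Z ⟶ Y}
  {φ₁ : (Scheme.Modules.pullback j).obj (Omega.conormal f) ⟶ Omega.conormal (j ≫ f)}
  {φ₂ : (Scheme.Modules.pullback (𝟙 Z)).obj (Omega.conormal (j ≫ f)) ⟶ Omega.conormal j}

/-- The basis of charts adapted to the regular sequences. -/
def adapted (f : Y ⟶ X) (j : Z ⟶ Y) : Set Z.Opens :=
  {W | ∃ U, IsChart f U ∧ IsChart (j ≫ f) U ∧ IsH1Chart j (f ⁻¹ᵁ U) ∧ (j ≫ f) ⁻¹ᵁ U = W}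

theorem isBasisFam_adapted [IsImmersion f] [IsImmersion j]
    (hj : RegImm.IsRegularImmersion RegImm.Kind.h1 j) : IsBasisFam (adapted f j) := by
  intro O z hz
  obtain ⟨V₀, hzV₀, hV₀⟩ := exists_h1Chart hj z
  obtain ⟨U₀, hU₀, hzU₀, hle₀⟩ := exists_chart f (j z) V₀ hzV₀
  obtain ⟨U, hU, hzU, hle, hUO⟩ := exists_chart_le (j ≫ f) z O hz U₀ hzU₀
  have hUf := hU₀.of_le hU.affine hle
  exact ⟨_, ⟨U, hUf, hU, hV₀.of_le hUf.preimage ((f.preimage_mono hle).trans hle₀), rfl⟩, hUO, hzU⟩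

/-- The first map is a monomorphism. -/
theorem mono_first [IsImmersion f] [QuasiCompact f] [IsImmersion j] [QuasiCompact j]
    (hj : RegImm.IsRegularImmersion RegImm.Kind.h1 j) (hφ₁ : OmegaSh.IsConormalMap (j ≫ f) f (𝟙 X) j φ₁) :
    Mono φ₁ := by
  refine mono_of_basis φ₁ (isBasisFam_adapted (f := f) hj) ?_
  rintro _ ⟨U, hU, hjf, ⟨hjc, n, g', hg', hkerj⟩, rfl⟩
  refine (injective_iff_map_eq_zero _).2 fun c hc => ?_
  obtain ⟨m, rfl⟩ := (pullSect_chart (Conormal.isQCoh_conormal f) hjc).1 c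
  obtain ⟨r, rfl⟩ := conormalSect_surjective f hU m
  obtain ⟨s₁, hs₁⟩ := exists_idealSect (j ≫ f) U (OmegaSh.idealSect f.ker U r) (by
    rw [Scheme.Hom.comp_app]
    show j.app _ (f.app U _) = 0
    rw [app_idealSect, map_zero])
  have h1 : φ₁.app ((j ≫ f) ⁻¹ᵁ U) (pullSectLE j (Omega.conormal f) (f ⁻¹ᵁ U) ((j ≫ f) ⁻¹ᵁ U) le_rfl
      (OmegaSh.conormalSect f U r)) = OmegaSh.conormalSect (j ≫ f) U s₁ :=
    IsConormalMap.app_class (j ≫ f) f (𝟙 X) j hφ₁ U U le_rfl le_rfl r s₁ (by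
      rw [hs₁, Scheme.Hom.appLE, Scheme.Hom.id_app]
      exact (resO_self le_rfl _).symm)
  replace h1 : φ₁.app ((j ≫ f) ⁻¹ᵁ U) (OmegaSh.pullSect j (Omega.conormal f) (f ⁻¹ᵁ U) (OmegaSh.conormalSect f U r)) =
      OmegaSh.conormalSect (j ≫ f) U s₁ :=
    (congrArg _ (QC.res_self _ le_rfl _).symm).trans h1
  have h2 : OmegaSh.idealSect f.ker U r ∈ RingHom.ker ((j ≫ f).app U).hom ^ 2 := by
    rw [← hs₁]
    exact (conormalSect_eq_zero_iff (j ≫ f) hjf s₁).1 (h1.symm.trans hc)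
  choose g hg using fun k => hU.surjective (g' k)
  have hgg : (f.app U).hom ∘ g = g' := funext hg
  have h3 : OmegaSh.idealSect f.ker U r ∈ RingHom.ker (f.app U).hom * RingHom.ker ((j ≫ f).app U).hom :=
    mem_mul_of_mem_sq _ hU.surjective g (by rwa [hgg]) (by
      ext a
      rw [Ideal.mem_comap, hgg, ← hkerj, RingHom.mem_ker, RingHom.mem_ker, Scheme.Hom.comp_app]
      rfl) (RingHom.mem_ker.2 (app_idealSect f U r)) h2
  obtain ⟨r', hr', hP⟩ : ∃ r', OmegaSh.idealSect f.ker U r' = OmegaSh.idealSect f.ker U r ∧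
      OmegaSh.pullSect j (Omega.conormal f) (f ⁻¹ᵁ U) (OmegaSh.conormalSect f U r') = 0 := by
    refine Submodule.mul_induction_on h3 (fun x hx y hy => ?_) (fun x y hx hy => ?_)
    · obtain ⟨rx, hrx⟩ := exists_idealSect f U x (RingHom.mem_ker.1 hx)
      refine ⟨y • rx, by rw [idealSect_smul, hrx, mul_comm], ?_⟩
      rw [conormalSect_smul, (pullSect_chart (Conormal.isQCoh_conormal f) hjc).2]
      refine Submodule.smul_mem_smul ?_ Submodule.mem_top
      rw [RingHom.mem_ker, Scheme.Hom.comp_app] at hy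
      exact RingHom.mem_ker.2 hy
    · obtain ⟨a, ha, ha'⟩ := hx
      obtain ⟨b, hb, hb'⟩ := hy
      exact ⟨a + b, by rw [map_add, ha, hb], by rw [map_add, map_add, ha', hb', add_zero]⟩
  rwa [idealSect_injective f.ker U hr'] at hP

/-- The conormal sequence is short exact. -/
theorem shortExact [IsImmersion f] [QuasiCompact f] [IsImmersion j] [QuasiCompact j]
    (hj : RegImm.IsRegularImmersion RegImm.Kind.h1 j) (hφ₁ : OmegaSh.IsConormalMap (j ≫ f) f (𝟙 X) j φ₁)
    (hφ₂ : OmegaSh.IsConormalMap j (j ≫ f) f (𝟙 Z) φ₂)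
    (w : φ₁ ≫ ((Scheme.Modules.pullbackId Z).inv.app (Omega.conormal (j ≫ f)) ≫ φ₂) = 0) :
    (ShortComplex.mk φ₁ ((Scheme.Modules.pullbackId Z).inv.app (Omega.conormal (j ≫ f)) ≫ φ₂) w).ShortExact := by
  obtain ⟨h2, h3⟩ := exact_conormal hφ₁ hφ₂
  exact { exact := (ShortComplex.exact_iff_image_eq_kernel _).2 h3
          mono_f := mono_first hj hφ₁
          epi_g := epi_comp _ _ }

end Groth.Agent.ConormalH1
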